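import Groth.Prelude.Def_SGA1
import Groth.Agent.Lib.Dim.Ring
import Groth.Agent.Lib.CMFree.Regular
import Mathlib.RingTheory.RegularLocalRing.Defs
import Mathlib.RingTheory.Etale.Basic
import Mathlib.RingTheory.Ideal.Cotangent
import Mathlib.FieldTheory.IsAlgClosed.AlgebraicClosure
import Mathlib.LinearAlgebra.Dimension.Finite
import Mathlib.Tactic.FieldSimp
import Mathlib.Tactic.LinearCombination

/-!
# Kummer algebras over regular local rings
-/

set_option autoImplicit false
set_option linter.style.haveILetI false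

universe u

open IsLocalRing

noncomputable section

namespace GrothLib.Kummer21

variable {A : Type u} [CommRing A] {r : ℕ} (f : Fin r → A) (n : Fin r → ℕ)

/-- The root. -/
def root (i : Fin r) : SGA1.kummerAlg A f n :=
  Ideal.Quotient.mk _ (MvPolynomial.X i)

theorem root_pow (i : Fin r) : root f n i ^ n i = algebraMap A (SGA1.kummerAlg A f n) (f i) := by
  rw [root, ← map_pow, IsScalarTower.algebraMap_apply A (MvPolynomial (Fin r) A), MvPolynomial.algebraMap_eq]
  exact Ideal.Quotient.eq.2 (Ideal.subset_span ⟨i, rfl⟩)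

theorem adjoin_root : Algebra.adjoin A (Set.range (root f n)) = ⊤ := by
  have h := congrArg (Subalgebra.map (Ideal.Quotient.mkₐ A
    (Ideal.span (Set.range fun i => (MvPolynomial.X i : MvPolynomial (Fin r) A) ^ n i - MvPolynomial.C (f i)))))
    (MvPolynomial.adjoin_range_X (R := A) (σ := Fin r))
  rw [AlgHom.map_adjoin, Algebra.map_top, ← Set.range_comp,
    (AlgHom.range_eq_top _).2 (Ideal.Quotient.mkₐ_surjective A _)] at h
  exact h

variable {f n}

theorem algHom_ext {C : Type*} [CommRing C] [Algebra A C] {g h : SGA1.kummerAlg A f n →ₐ[A] C}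
    (e : ∀ i, g (root f n i) = h (root f n i)) : g = h :=
  Ideal.Quotient.algHom_ext A (MvPolynomial.algHom_ext e)

/-- The map given by roots. -/
def lift {C : Type*} [CommRing C] [Algebra A C] (t : Fin r → C) (h : ∀ i, t i ^ n i = algebraMap A C (f i)) :
    SGA1.kummerAlg A f n →ₐ[A] C :=
  Ideal.Quotient.liftₐ _ (MvPolynomial.aeval t) (fun a ha => by
    have hle : Ideal.span (Set.range fun i => (MvPolynomial.X i : MvPolynomial (Fin r) A) ^ n i - MvPolynomial.C (f i)) ≤
        RingHom.ker (MvPolynomial.aeval t).toRingHom := by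
      rw [Ideal.span_le]
      rintro _ ⟨i, rfl⟩
      simp [h i]
    exact hle ha)

theorem lift_root {C : Type*} [CommRing C] [Algebra A C] (t : Fin r → C) (h : ∀ i, t i ^ n i = algebraMap A C (f i))
    (i : Fin r) : lift t h (root f n i) = t i := by
  simp [lift, root]

theorem isIntegral_alg (hn : ∀ i, 1 ≤ n i) : Algebra.IsIntegral A (SGA1.kummerAlg A f n) := by
  refine ⟨fun x => ?_⟩
  have hx : x ∈ Algebra.adjoin A (Set.range (root f n)) := by rw [adjoin_root]; exact Algebra.mem_top
  refine (mem_integralClosure_iff A _).1 (Algebra.adjoin_le ?_ hx)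
  rintro _ ⟨i, rfl⟩
  exact (mem_integralClosure_iff A _).2 (IsIntegral.of_pow (hn i) (by rw [root_pow]; exact isIntegral_algebraMap))

theorem finite_alg (hn : ∀ i, 1 ≤ n i) : Module.Finite A (SGA1.kummerAlg A f n) :=
  haveI := isIntegral_alg (f := f) hn
  Algebra.IsIntegral.finite

theorem injective_algebraMap [IsDomain A] (hn : ∀ i, 1 ≤ n i) :
    Function.Injective (algebraMap A (SGA1.kummerAlg A f n)) := by
  let Ω := AlgebraicClosure (FractionRing A)
  have ht : ∀ i, ∃ z : Ω, z ^ n i = algebraMap A Ω (f i) := fun i =>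
    IsAlgClosed.exists_pow_nat_eq _ (hn i)
  choose t ht using ht
  intro a b h
  refine FaithfulSMul.algebraMap_injective A (FractionRing A) ?_
  refine (algebraMap (FractionRing A) Ω).injective ?_
  rw [← IsScalarTower.algebraMap_apply, ← IsScalarTower.algebraMap_apply, ← (lift t ht).commutes a, h,
    AlgHom.commutes]

variable [IsLocalRing A]

theorem maximal_eq_span (hm : ∀ i, f i ∈ maximalIdeal A) (hn : ∀ i, 1 ≤ n i) {s : Set A}
    (hs : maximalIdeal A = Ideal.span (Set.range f ∪ s)) (M : Ideal (SGA1.kummerAlg A f n)) (hM : M.IsMaximal) :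
    M = Ideal.span (Set.range (root f n) ∪ algebraMap A (SGA1.kummerAlg A f n) '' s) := by
  haveI := isIntegral_alg (f := f) hn
  let B := SGA1.kummerAlg A f n
  let J : Ideal B := Ideal.span (Set.range (root f n) ∪ algebraMap A B '' s)
  change M = J
  have hc : Ideal.comap (algebraMap A B) M = maximalIdeal A :=
    IsLocalRing.eq_maximalIdeal (Ideal.isMaximal_comap_of_isIntegral_of_isMaximal M)
  have hroot : ∀ i, root f n i ∈ M := fun i => hM.isPrime.mem_of_pow_mem (n i) (by
    rw [root_pow]
    exact (Ideal.mem_comap).1 (hc.symm ▸ hm i))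
  refine le_antisymm (fun x hxM => ?_) (Ideal.span_le.2 ?_)
  · have hmJ : ∀ a ∈ maximalIdeal A, algebraMap A B a ∈ J := by
      have hle : maximalIdeal A ≤ Ideal.comap (algebraMap A B) J := by
        rw [hs, Ideal.span_le]
        rintro _ (⟨i, rfl⟩ | ha)
        · rw [SetLike.mem_coe, Ideal.mem_comap, ← root_pow]
          exact Ideal.pow_mem_of_mem _ (show root f n i ∈ J from Ideal.subset_span (Or.inl ⟨i, rfl⟩)) _ (hn i)
        · exact Ideal.subset_span (Or.inr ⟨_, ha, rfl⟩)
      exact fun a ha => hle ha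
    obtain ⟨p, rfl⟩ := Ideal.Quotient.mk_surjective x
    have key : ∃ a : A, Ideal.Quotient.mk _ p - algebraMap A B a ∈ J := by
      refine ⟨MvPolynomial.constantCoeff p, ?_⟩
      clear hxM
      induction p using MvPolynomial.induction_on with
      | C a => rw [MvPolynomial.constantCoeff_C]; convert J.zero_mem using 1; exact sub_self _
      | add p q hp hq =>
        rw [map_add, map_add, map_add]
        convert J.add_mem hp hq using 1
        abel
      | mul_X p i hp =>
        rw [map_mul, map_mul, MvPolynomial.constantCoeff_X, mul_zero, map_zero, sub_zero]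
        exact Ideal.mul_mem_left _ _ (Ideal.subset_span (Or.inl ⟨i, rfl⟩))
    obtain ⟨a, ha⟩ := key
    have hJM : J ≤ M := by
      rw [Ideal.span_le]
      rintro _ (⟨i, rfl⟩ | ⟨c, hcs, rfl⟩)
      · exact hroot i
      · exact (Ideal.mem_comap).1 (hc.symm ▸ (hs.symm ▸ Ideal.subset_span (Or.inr hcs)))
    have haM : a ∈ maximalIdeal A := hc ▸ (Ideal.mem_comap.2 (by simpa using M.sub_mem hxM (hJM ha)))
    simpa using J.add_mem ha (hmJ a haM)
  · rintro _ (⟨i, rfl⟩ | ⟨c, hcs, rfl⟩)
    · exact hroot i
    · exact (Ideal.mem_comap).1 (hc.symm ▸ (hs.symm ▸ Ideal.subset_span (Or.inr hcs)))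

theorem exists_complement [IsNoetherianRing A] (hm : ∀ i, f i ∈ maximalIdeal A)
    (hf : LinearIndependent (ResidueField A) (fun i => (maximalIdeal A).toCotangent ⟨f i, hm i⟩)) :
    ∃ s : Finset A, s.card + r = Module.finrank (ResidueField A) (CotangentSpace A) ∧
      maximalIdeal A = Ideal.span (Set.range f ∪ s) := by
  classical
  let v : Fin r → CotangentSpace A := fun i => (maximalIdeal A).toCotangent ⟨f i, hm i⟩
  let W : Submodule (ResidueField A) (CotangentSpace A) := Submodule.span _ (Set.range v)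
  let b := Module.finBasis (ResidueField A) (CotangentSpace A ⧸ W)
  have hc : ∀ j, ∃ g : maximalIdeal A, W.mkQ ((maximalIdeal A).toCotangent g) = b j := fun j => by
    obtain ⟨y, hy⟩ := W.mkQ_surjective (b j)
    obtain ⟨g, rfl⟩ := (maximalIdeal A).toCotangent_surjective y
    exact ⟨g, hy⟩
  choose g hg using hc
  have hcard : Module.finrank (ResidueField A) (CotangentSpace A ⧸ W) + r =
      Module.finrank (ResidueField A) (CotangentSpace A) := by
    rw [← W.finrank_quotient_add_finrank, finrank_span_eq_card (R := ResidueField A) hf, Fintype.card_fin]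
  let S : Set (maximalIdeal A) := Set.range (fun i => (⟨f i, hm i⟩ : maximalIdeal A)) ∪ Set.range g
  have hS : Submodule.span A S = ⊤ := by
    rw [← CotangentSpace.span_image_eq_top_iff, Set.image_union, ← Set.range_comp, ← Set.range_comp,
      Submodule.span_union]
    change W ⊔ _ = ⊤
    rw [← W.map_mkQ_eq_top, Submodule.map_span, ← Set.range_comp]
    refine eq_top_iff.2 ?_
    rw [← b.span_eq]
    refine Submodule.span_mono ?_
    rintro _ ⟨j, rfl⟩
    exact ⟨j, hg j⟩
  have hginj : Function.Injective fun j => (g j : A) := fun i j h => b.injective (by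
    rw [← hg i, ← hg j, Subtype.ext h])
  refine ⟨Finset.univ.image fun j => (g j : A), ?_, ?_⟩
  · rw [Finset.card_image_of_injective _ hginj, Finset.card_univ, Fintype.card_fin]
    exact hcard
  · have := congrArg (Submodule.map (maximalIdeal A).subtype) hS
    rw [Submodule.map_top, Submodule.range_subtype, Submodule.map_span] at this
    rw [Finset.coe_image, Finset.coe_univ, Set.image_univ]
    refine this.symm.trans ?_
    rw [Ideal.span]
    congr 1
    rw [Set.image_union, ← Set.range_comp, ← Set.range_comp]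
    rfl

theorem isRegularLocalRing_alg [IsRegularLocalRing A] (hm : ∀ i, f i ∈ maximalIdeal A)
    (hf : LinearIndependent (ResidueField A) (fun i => (maximalIdeal A).toCotangent ⟨f i, hm i⟩))
    (hn : ∀ i, 1 ≤ n i) : IsRegularLocalRing (SGA1.kummerAlg A f n) := by
  classical
  haveI : IsDomain A := GrothLib.CMFree.isDomain_of_isRegularLocalRing A
  haveI := finite_alg (f := f) hn
  haveI := isIntegral_alg (f := f) hn
  let B := SGA1.kummerAlg A f n
  have hinj := injective_algebraMap (f := f) hn
  haveI : Nontrivial B := hinj.nontrivial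
  haveI : IsNoetherianRing B := IsNoetherianRing.of_finite A B
  obtain ⟨s, hcard, hs⟩ := exists_complement hm hf
  obtain ⟨M, hM⟩ := Ideal.exists_maximal B
  haveI : IsLocalRing B := IsLocalRing.of_unique_max_ideal ⟨M, hM, fun M' hM' => by
    rw [maximal_eq_span hm hn hs M hM, maximal_eq_span hm hn hs M' hM']⟩
  refine IsRegularLocalRing.of_spanFinrank_maximalIdeal_le _ ?_
  rw [GrothLib.Dim.ringKrullDim_eq_of_isIntegral hinj, ← (IsRegularLocalRing.iff_finrank_cotangentSpace A).1 ‹_›,
    ← hcard]
  rw [maximal_eq_span hm hn hs (maximalIdeal B) inferInstance]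
  refine Nat.cast_le.2 ?_
  let T : Finset B := Finset.univ.image (root f n) ∪ s.image (algebraMap A B)
  have hT : (T : Set B) = Set.range (root f n) ∪ algebraMap A B '' (s : Set A) := by simp [T]
  change Submodule.spanFinrank (Submodule.span B (Set.range (root f n) ∪ algebraMap A B '' (s : Set A))) ≤ _
  rw [← hT]
  refine (Submodule.spanFinrank_span_le_ncard_of_finite T.finite_toSet).trans ?_
  rw [Set.ncard_coe_finset]
  refine (Finset.card_union_le _ _).trans ?_
  have h1 := Finset.card_image_le (s := (Finset.univ : Finset (Fin r))) (f := root f n)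
  have h2 := Finset.card_image_le (s := s) (f := algebraMap A B)
  rw [Finset.card_univ, Fintype.card_fin] at h1
  omega

omit [IsLocalRing A] in
/-- Roots of units lift uniquely modulo square zero ideals. -/
theorem existsUnique_root {S : Type*} [CommRing S] (I : Ideal S) (hI : I ^ 2 = ⊥) {m : ℕ} (hm : IsUnit (m : S))
    (a : S) (ha : IsUnit a) (s₀ : S) (h₀ : s₀ ^ m - a ∈ I) : ∃! s, s - s₀ ∈ I ∧ s ^ m = a := by
  rcases Nat.eq_zero_or_pos m with rfl | hpos
  · rw [Nat.cast_zero, isUnit_zero_iff] at hm
    haveI := subsingleton_of_zero_eq_one hm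
    exact ⟨s₀, ⟨by simp, Subsingleton.elim _ _⟩, fun _ _ => Subsingleton.elim _ _⟩
  have hsq : ∀ x ∈ I, ∀ y ∈ I, x * y = 0 := fun x hx y hy => by
    rw [← Ideal.mem_bot, ← hI, pow_two]
    exact Ideal.mul_mem_mul hx hy
  have hexp : ∀ (x d : S), d ∈ I → ∀ k : ℕ, (x + d) ^ k = x ^ k + (k : S) * x ^ (k - 1) * d := fun x d hd k => by
    induction k with
    | zero => simp
    | succ k ih =>
      rw [pow_succ, ih]
      rcases k with _ | k
      · simp
      · simp only [Nat.add_sub_cancel, Nat.cast_add, Nat.cast_one, pow_succ]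
        linear_combination ((k : S) + 1) * x ^ k * hsq d hd d hd
  have hu0 : IsUnit (s₀ ^ m) := by
    obtain ⟨u, rfl⟩ := ha
    have e : s₀ ^ m = u * (1 + ((u⁻¹ : Sˣ) : S) * (s₀ ^ m - u)) := by
      rw [mul_add, mul_one, ← mul_assoc, Units.mul_inv, one_mul]; ring
    rw [e]
    refine u.isUnit.mul ?_
    exact IsNilpotent.isUnit_one_add ⟨2, by rw [pow_two]; exact hsq _ (I.mul_mem_left _ h₀) _ (I.mul_mem_left _ h₀)⟩
  have hs₀ : IsUnit s₀ := (isUnit_pow_iff hpos.ne').1 hu0
  obtain ⟨c, hc⟩ := hm.mul (hs₀.pow (m - 1))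
  let d := ((c⁻¹ : Sˣ) : S) * (a - s₀ ^ m)
  have hd : d ∈ I := I.mul_mem_left _ (by rw [← neg_sub]; exact I.neg_mem h₀)
  refine ⟨s₀ + d, ⟨by simpa using hd, ?_⟩, fun s ⟨hs, hsm⟩ => ?_⟩
  · rw [hexp _ _ hd, ← hc, ← mul_assoc, Units.mul_inv, one_mul]; ring
  · have h1 := hexp s₀ (s - s₀) hs m
    rw [add_sub_cancel, hsm, ← hc] at h1
    have h2 : d = s - s₀ := by
      change ((c⁻¹ : Sˣ) : S) * (a - s₀ ^ m) = _
      rw [h1, add_sub_cancel_left, ← mul_assoc, Units.inv_mul, one_mul]
    rw [h2]; ring

omit [IsLocalRing A] in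
theorem etale_away (hnu : ∀ i, IsUnit ((n i : ℕ) : A)) :
    letI := (Localization.awayMap (algebraMap A (SGA1.kummerAlg A f n)) (∏ i, f i)).toAlgebra
    Algebra.Etale (Localization.Away (∏ i, f i))
      (Localization.Away (algebraMap A (SGA1.kummerAlg A f n) (∏ i, f i))) := by
  classical
  let P := ∏ i, f i
  let B := SGA1.kummerAlg A f n
  let Af := Localization.Away P
  let Bf := Localization.Away (algebraMap A B P)
  letI : Algebra Af Bf := (Localization.awayMap (algebraMap A B) P).toAlgebra
  haveI : IsScalarTower A Af Bf := IsScalarTower.of_algebraMap_eq fun a => by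
    rw [RingHom.algebraMap_toAlgebra, Localization.awayMap, IsLocalization.Away.map, IsLocalization.map_eq]
    exact IsScalarTower.algebraMap_apply A B Bf a
  haveI : Algebra.FinitePresentation A B := Algebra.FinitePresentation.quotient
    ⟨(Finset.univ : Finset (Fin r)).image (fun i => (MvPolynomial.X i : MvPolynomial (Fin r) A) ^ n i -
      MvPolynomial.C (f i)), by simp⟩
  haveI : Algebra.FinitePresentation B Bf := IsLocalization.Away.finitePresentation (algebraMap A B P)
  haveI : Algebra.FinitePresentation A Bf := Algebra.FinitePresentation.trans A B Bf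
  haveI : Algebra.FiniteType A Af := IsLocalization.finiteType_of_monoid_fg (Submonoid.powers P) Af
  have hfp : Algebra.FinitePresentation Af Bf := Algebra.FinitePresentation.of_restrict_scalars_finitePresentation A Af Bf
  refine { formallyEtale := ?_, finitePresentation := hfp }
  rw [Algebra.FormallyEtale.iff_comp_bijective]
  intro S _ _ I hI
  letI : Algebra A S := ((algebraMap Af S).comp (algebraMap A Af)).toAlgebra
  haveI : IsScalarTower A Af S := IsScalarTower.of_algebraMap_eq fun _ => rfl
  have hP : IsUnit (algebraMap A S P) := by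
    rw [IsScalarTower.algebraMap_apply A Af S]
    exact (IsLocalization.Away.algebraMap_isUnit (S := Af) P).map _
  have hfi : ∀ i, IsUnit (algebraMap A S (f i)) := fun i =>
    isUnit_of_dvd_unit (map_dvd _ (Finset.dvd_prod_of_mem f (Finset.mem_univ i))) hP
  have hni : ∀ i, IsUnit ((n i : ℕ) : S) := fun i => by simpa using (hnu i).map (algebraMap A S)
  let ρ : B →+* Bf := algebraMap B Bf
  have hroot : ∀ {C : Type u} [CommRing C] [Algebra Af C] [Algebra A C] [IsScalarTower A Af C] (φ : Bf →ₐ[Af] C) (i : Fin r),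
      φ (ρ (root f n i)) ^ n i = algebraMap A C (f i) := fun φ i => by
    rw [← map_pow, ← map_pow, root_pow]
    change φ (algebraMap B Bf (algebraMap A B (f i))) = _
    rw [← IsScalarTower.algebraMap_apply, IsScalarTower.algebraMap_apply A Af Bf, AlgHom.commutes,
      ← IsScalarTower.algebraMap_apply]
  have hext : ∀ {C : Type u} [CommRing C] [Algebra Af C] [Algebra A C] [IsScalarTower A Af C] (φ ψ : Bf →ₐ[Af] C),
      (∀ i, φ (ρ (root f n i)) = ψ (ρ (root f n i))) → φ = ψ := fun φ ψ h => by
    refine AlgHom.coe_ringHom_injective (IsLocalization.ringHom_ext (Submonoid.powers (algebraMap A B P)) ?_)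
    exact congrArg (fun r => (r : B →ₐ[A] _).toRingHom)
      (algHom_ext (g := (φ.restrictScalars A).comp (IsScalarTower.toAlgHom A B Bf))
        (h := (ψ.restrictScalars A).comp (IsScalarTower.toAlgHom A B Bf)) h)
  refine ⟨fun φ ψ h => hext φ ψ fun i => ?_, fun g => ?_⟩
  · have hI' : ∀ i, φ (ρ (root f n i)) - ψ (ρ (root f n i)) ∈ I := fun i =>
      Ideal.Quotient.eq.1 (congrArg (fun F : Bf →ₐ[Af] S ⧸ I => F (ρ (root f n i))) h)
    refine (existsUnique_root I hI (hni i) _ (hfi i) (ψ (ρ (root f n i))) (by rw [hroot]; simp)).unique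
      ⟨hI' i, hroot φ i⟩ ⟨by simp, hroot ψ i⟩
  · have hs : ∀ i, ∃ s : S, Ideal.Quotient.mk I s = g (ρ (root f n i)) ∧ s ^ n i = algebraMap A S (f i) := fun i => by
      obtain ⟨s₀, hs₀⟩ := Ideal.Quotient.mk_surjective (g (ρ (root f n i)))
      obtain ⟨s, ⟨hs, hsn⟩, -⟩ := existsUnique_root I hI (hni i) _ (hfi i) s₀ (Ideal.Quotient.eq.1 (by
        rw [map_pow, hs₀, hroot]
        rfl))
      exact ⟨s, (Ideal.Quotient.eq.2 hs).trans hs₀, hsn⟩
    choose s hs hsn using hs
    let b : B →ₐ[A] S := lift s hsn
    have hu : IsUnit (b (algebraMap A B P)) := by rw [AlgHom.commutes]; exact hP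
    let φ₀ : Bf →+* S := IsLocalization.Away.lift (algebraMap A B P) (g := b.toRingHom) hu
    have hφ : φ₀.comp (algebraMap B Bf) = b.toRingHom := IsLocalization.Away.lift_comp _ _
    let φ : Bf →ₐ[Af] S :=
      { φ₀ with
        commutes' := fun x => by
          have e : φ₀.comp (algebraMap Af Bf) = algebraMap Af S := by
            refine IsLocalization.ringHom_ext (Submonoid.powers P) (RingHom.ext fun a => ?_)
            change φ₀ (algebraMap Af Bf (algebraMap A Af a)) = algebraMap Af S (algebraMap A Af a)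
            rw [← IsScalarTower.algebraMap_apply, IsScalarTower.algebraMap_apply A B Bf]
            exact (congr($hφ (algebraMap A B a))).trans (b.commutes a)
          exact congr($e x) }
    refine ⟨φ, hext _ g fun i => ?_⟩
    change Ideal.Quotient.mk I (φ₀ (algebraMap B Bf (root f n i))) = _
    rw [show φ₀ (algebraMap B Bf (root f n i)) = b (root f n i) from congr($hφ (root f n i))]
    change Ideal.Quotient.mk I (lift s hsn (root f n i)) = _
    rw [lift_root, hs]

end GrothLib.Kummer21
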